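import Mathlib.FieldTheory.Galois.Basic
import Mathlib.FieldTheory.Finite.Basic
import Mathlib.Algebra.CharP.Lemmas
import Mathlib.GroupTheory.SpecificGroups.Cyclic

/-!
# Artin–Schreier generators of cyclic extensions of degree `p`
-/

universe u

namespace Groth.Agent.DvrCoeff28

set_option linter.style.haveILetI false

open Polynomial in
theorem exists_AS {F E : Type u} [Field F] [Field E] [Algebra F E] (p : ℕ) [Fact p.Prime] [CharP F p]
    [IsGalois F E] (hdeg : Module.finrank F E = p) :
    ∃ x : E, x ∉ Set.range (algebraMap F E) ∧ ∃ α : F, x ^ p - x + algebraMap F E α = 0 := by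
  have hp := (Fact.out : p.Prime)
  haveI : FiniteDimensional F E := Module.finite_of_finrank_pos (by rw [hdeg]; exact hp.pos)
  haveI : CharP E p := charP_of_injective_algebraMap (algebraMap F E).injective p
  have hcard : Nat.card (E ≃ₐ[F] E) = p := by rw [IsGalois.card_aut_eq_finrank, hdeg]
  haveI : Nontrivial (E ≃ₐ[F] E) := Finite.one_lt_card_iff_nontrivial.1 (by rw [hcard]; exact hp.one_lt)
  obtain ⟨σ, hσ⟩ := exists_ne (1 : E ≃ₐ[F] E)
  have hgen : ∀ τ : E ≃ₐ[F] E, τ ∈ Subgroup.zpowers σ := fun τ => mem_zpowers_of_prime_card hcard hσ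
  have hfix : ∀ x : E, σ x = x → x ∈ Set.range (algebraMap F E) := fun x hx => by
    refine (IsGalois.mem_bot_iff_fixed x).2 fun τ => ?_
    have : Subgroup.zpowers σ ≤ MulAction.stabilizer (E ≃ₐ[F] E) x :=
      Subgroup.zpowers_le.2 (MulAction.mem_stabilizer_iff.2 hx)
    exact this (hgen τ)
  let L : Module.End F E := σ.toLinearMap
  have hLp : L ^ p = 1 := by
    have h1 : σ ^ p = 1 := by rw [← hcard]; exact pow_card_eq_one'
    ext x
    rw [Module.End.pow_apply]
    show (⇑σ)^[p] x = x
    rw [← AlgEquiv.coe_pow, h1]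
    rfl
  haveI : CharP (Module.End F E) p :=
    charP_of_injective_algebraMap (algebraMap F (Module.End F E)).injective p
  have hN : (L - 1) ^ p = 0 := by rw [sub_pow_char_of_commute p (Commute.one_right L), hLp, one_pow, sub_self]
  obtain ⟨z, hz⟩ : ∃ z, (L - 1) z ≠ 0 := by
    by_contra! h
    refine hσ (AlgEquiv.ext fun x => sub_eq_zero.1 (h x))
  classical
  have hex : ∃ k : ℕ, ((L - 1) ^ k) z = 0 := ⟨p, by rw [hN]; rfl⟩
  obtain ⟨k, hk⟩ : ∃ k, Nat.find hex = k + 2 := by
    refine ⟨Nat.find hex - 2, ?_⟩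
    rcases h : Nat.find hex with _ | _ | j
    · exact absurd (by have := Nat.find_spec hex; rw [h, pow_zero] at this; simpa using this) (fun e : z = 0 => hz (by rw [e, map_zero]))
    · exact absurd (by have := Nat.find_spec hex; rwa [h, pow_one] at this) hz
    · omega
  set y := ((L - 1) ^ k) z
  have hy0 : (L - 1) y ≠ 0 := by
    rw [← Module.End.mul_apply, ← pow_succ']
    exact Nat.find_min hex (by omega)
  have hyy : (L - 1) ((L - 1) y) = 0 := by
    have := Nat.find_spec hex
    rw [hk, pow_succ', pow_succ', Module.End.mul_apply, Module.End.mul_apply] at this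
    exact this
  obtain ⟨c, hc⟩ := hfix _ (sub_eq_zero.1 hyy)
  have hc0 : algebraMap F E c ≠ 0 := by rw [hc]; exact hy0
  let x := y / algebraMap F E c
  have hx : σ x = x + 1 := by
    have h1 : σ y = y + algebraMap F E c := by rw [hc]; exact (add_sub_cancel y (σ y)).symm
    show σ (y / _) = _
    rw [map_div₀, AlgEquiv.commutes, h1, add_div, div_self hc0]
  refine ⟨x, fun ⟨f, hf⟩ => ?_, ?_⟩
  · rw [← hf, AlgEquiv.commutes, left_eq_add] at hx
    exact one_ne_zero hx
  · obtain ⟨f, hf⟩ := hfix (x ^ p - x) (by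
      rw [map_sub, map_pow, hx, add_pow_char, one_pow, add_sub_add_right_eq_sub])
    exact ⟨-f, by rw [map_neg, hf, add_neg_cancel]⟩

end Groth.Agent.DvrCoeff28
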