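import Groth.Agent.Lib.RigH7.DimOne
import Groth.Agent.Lib.Hens.Local
import Mathlib.RingTheory.DiscreteValuationRing.Basic
import Mathlib.RingTheory.DiscreteValuationRing.TFAE
import Mathlib.RingTheory.Henselian

/-!
# Finite Dedekind extensions of complete discrete valuation rings
-/

universe u

open IsLocalRing

namespace Groth.Agent.DvrCoeff28

set_option linter.style.haveILetI false

theorem henselian_base (A : Type u) [CommRing A] [IsLocalRing A] [IsAdicComplete (maximalIdeal A) A] :
    HenselianLocalRing A :=
  Hens.henselianLocalRing_iff.2 inferInstance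

/-- A finite domain over a complete discrete valuation ring containing it is local. -/
theorem isLocalRing_top (A B : Type u) [CommRing A] [IsDomain A] [IsDiscreteValuationRing A]
    [IsAdicComplete (maximalIdeal A) A] [CommRing B] [IsDomain B] [Algebra A B] [Module.Finite A B] :
    IsLocalRing B := by
  obtain ⟨ϖ, hϖ⟩ := IsDiscreteValuationRing.exists_irreducible A
  haveI : IsAdicComplete (Ideal.span {ϖ}) A := by rw [← hϖ.maximalIdeal_eq]; infer_instance
  exact Groth.Agent.Lib.RigH7.isLocalRing_of_finite hϖ.ne_zero B

theorem henselian_top (A B : Type u) [CommRing A] [IsDomain A] [IsDiscreteValuationRing A]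
    [IsAdicComplete (maximalIdeal A) A] [CommRing B] [IsDomain B] [Algebra A B] [Module.Finite A B] :
    HenselianLocalRing B := by
  haveI := henselian_base A
  haveI := isLocalRing_top A B
  haveI : Algebra.IsIntegral A B := Algebra.IsIntegral.of_finite A B
  exact Hens.henselianLocalRing_of_isIntegral A B

/-- Residue fields are finite over a coefficient field. -/
theorem finite_quotient (K A B : Type u) [Field K] [CommRing A] [IsLocalRing A] [Algebra K A]
    (hK : Function.Surjective ((residue A).comp (algebraMap K A)))
    [CommRing B] [Algebra A B] [Module.Finite A B] [Algebra K B] [IsScalarTower K A B]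
    (M : Ideal B) (hM : (maximalIdeal A).map (algebraMap A B) ≤ M) : Module.Finite K (B ⧸ M) := by
  obtain ⟨s, hs⟩ := Module.Finite.fg_top (R := A) (M := B)
  classical
  refine ⟨⟨s.image (Ideal.Quotient.mk M), ?_⟩⟩
  rw [eq_top_iff]
  intro x htop
  clear htop
  obtain ⟨b, rfl⟩ := Ideal.Quotient.mk_surjective x
  have hb : b ∈ Submodule.span A (s : Set B) := hs ▸ Submodule.mem_top
  rw [Finset.coe_image]
  induction hb using Submodule.span_induction with
  | mem y hy => exact Submodule.subset_span ⟨y, hy, rfl⟩
  | zero => rw [map_zero]; exact zero_mem _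
  | add y z _ _ hy hz => rw [map_add]; exact add_mem hy hz
  | smul a y _ hy =>
    obtain ⟨c, hc⟩ := hK (residue A a)
    have ha : a - algebraMap K A c ∈ maximalIdeal A := by
      rw [← residue_eq_zero_iff, map_sub, sub_eq_zero]
      exact hc.symm
    have : Ideal.Quotient.mk M (a • y) = c • Ideal.Quotient.mk M y := by
      rw [Algebra.smul_def c, IsScalarTower.algebraMap_apply K B (B ⧸ M), Ideal.Quotient.algebraMap_eq,
        ← map_mul, Ideal.Quotient.eq, IsScalarTower.algebraMap_apply K A B, Algebra.smul_def, ← sub_mul, ← map_sub]
      exact M.mul_mem_right _ (hM (Ideal.mem_map_of_mem _ ha))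
    rw [this]
    exact Submodule.smul_mem _ _ hy

end Groth.Agent.DvrCoeff28
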