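import Groth.Agent.Lib.DvrCoeff28.Basic
import Mathlib.RingTheory.RamificationInertia.Basic

/-!
# Totally ramified extensions have trivial residue extension
-/

universe u

open IsLocalRing

namespace Groth.Agent.DvrCoeff28

set_option linter.style.haveILetI false

theorem exists_sub_mem_of_totally_ramified (A B : Type u) [CommRing A] [IsDomain A] [IsLocalRing A]
    [CommRing B] [IsDomain B] [IsLocalRing B] [Algebra A B] [Module.Finite A B] [Module.Flat A B] [FaithfulSMul A B]
    (hram : (maximalIdeal B).ramificationIdx A = Module.finrank A B) (x : B) :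
    ∃ a : A, x - algebraMap A B a ∈ maximalIdeal B := by
  haveI : Algebra.IsIntegral A B := Algebra.IsIntegral.of_finite A B
  haveI hover : (maximalIdeal B).LiesOver (maximalIdeal A) :=
    ⟨(eq_maximalIdeal (Ideal.isMaximal_comap_of_isIntegral_of_isMaximal (R := A) (maximalIdeal B))).symm⟩
  have hf1 : (maximalIdeal B).inertiaDeg A = 1 := by
    haveI : Subsingleton ((maximalIdeal A).primesOver B) := ⟨fun P Q => Subtype.ext (by
      haveI := P.2.1; haveI := Q.2.1; haveI := P.2.2; haveI := Q.2.2
      rw [eq_maximalIdeal (Ideal.IsMaximal.of_liesOver_isMaximal P.1 (maximalIdeal A)),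
        eq_maximalIdeal (Ideal.IsMaximal.of_liesOver_isMaximal Q.1 (maximalIdeal A))])⟩
    letI : Fintype ((maximalIdeal A).primesOver B) :=
      Fintype.ofSubsingleton ⟨maximalIdeal B, inferInstance, hover⟩
    have h := Ideal.sum_ramification_inertia_eq_finrank (maximalIdeal A) B
    rw [Fintype.sum_subsingleton _ ⟨maximalIdeal B, inferInstance, hover⟩, hram] at h
    exact mul_left_cancel₀ (Module.finrank_pos (R := A) (M := B)).ne' (by rw [h, mul_one])
  rw [Ideal.inertiaDeg_eq_of_isMaximal (maximalIdeal A)] at hf1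
  letI := Ideal.Quotient.field (maximalIdeal A)
  obtain ⟨c, hc⟩ := (finrank_eq_one_iff_of_nonzero' (1 : B ⧸ maximalIdeal B) one_ne_zero).1 hf1
    (Ideal.Quotient.mk _ x)
  obtain ⟨a, rfl⟩ := Ideal.Quotient.mk_surjective c
  refine ⟨a, Ideal.Quotient.eq.1 (hc.symm.trans ?_)⟩
  rw [Algebra.smul_def, mul_one]
  rfl

end Groth.Agent.DvrCoeff28
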